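import Cfsg.Agent.H714.S8.SuzFam

/-!
# Irreducible characters of degree 197120 and 243243 of the Suzuki group (helper714)

Straight-line program from the characters of degree 780 and 1001 of the rank 3 representation: products, exterior
squares, Adams operations and their adjoints, integral combinations.
-/

set_option autoImplicit false
set_option maxRecDepth 100000

namespace Cfsg.Agent.H714.S8.SuzFam

open Cfsg Cfsg.Spor Cfsg.Agent.H123.Cls Cfsg.Agent.H300.Cls Cfsg.Agent.Characters.Brauer Cfsg.Agent.Characters.Core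
open Cfsg.Agent.OddHalf.Table.SuzRep (ψ ψ_val ψ_injective)
open Cfsg.Agent.SporadicRecognition.SuzOrder (card_Suz)
open Cfsg.Agent.H714.S8.Fam

theorem finite_Suz : Finite Suz := Nat.finite_of_card_ne_zero (by rw [card_Suz]; norm_num)

theorem gmul {v w : List ℤ} (hv : GC fam v) (hw : GC fam w) (r : List ℤ)
    (h : chkAll 37 (fun i => decide (r.getD i 0 = v.getD i 0 * w.getD i 0)) = true) : GC fam r :=
  GC.mul fam_lt hv hw r h

theorem galt {v : List ℤ} (hv : GC fam v) (r : List ℤ)
    (h : chkAll 37 (fun i => decide (2 * r.getD i 0 = v.getD i 0 ^ 2 - v.getD (P2.getD i 0) 0)) = true) : GC fam r :=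
  GC.alt fam_lt fam_sq hv r h

theorem gpsi2 {v : List ℤ} (hv : GC fam v) (r : List ℤ)
    (h : chkAll 37 (fun i => decide (r.getD i 0 = v.getD (P2.getD i 0) 0)) = true) : GC fam r :=
  have := finite_Suz
  GC.psi fam_lt fam_sq hv r h

theorem gpsi3 {v : List ℤ} (hv : GC fam v) (r : List ℤ)
    (h : chkAll 37 (fun i => decide (r.getD i 0 = v.getD (P3.getD i 0) 0)) = true) : GC fam r :=
  have := finite_Suz
  GC.psi fam_lt fam_cu hv r h

theorem gadj2 {v : List ℤ} (hv : GC fam v) (r : List ℤ)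
    (h : chkAll 37 (fun t => decide ((SZ.getD t 0 : ℤ) * r.getD t 0 =
      ((List.range 37).map fun i => if P2.getD i 0 = t then (SZ.getD i 0 : ℤ) * v.getD i 0 else 0).sum)) = true) :
    GC fam r := by
  have := finite_Suz
  have := Fintype.ofFinite Suz
  exact GC.adjA fam_lt fam_sq SZ fam_card fam_gal hv r h

theorem gadj3 {v : List ℤ} (hv : GC fam v) (r : List ℤ)
    (h : chkAll 37 (fun t => decide ((SZ.getD t 0 : ℤ) * r.getD t 0 =
      ((List.range 37).map fun i => if P3.getD i 0 = t then (SZ.getD i 0 : ℤ) * v.getD i 0 else 0).sum)) = true) :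
    GC fam r := by
  have := finite_Suz
  have := Fintype.ofFinite Suz
  exact GC.adjA fam_lt fam_cu SZ fam_card fam_gal hv r h

/-- an irreducible character invariant under automorphisms -/
theorem girr {v : List ℤ} (hv : GC fam v) {d : ℕ} (hd : v.getD 1 0 = d) (h0 : 0 < v.getD 1 0)
    (h : ((List.range 37).map fun i => (SZ.getD i 0 : ℤ) * v.getD i 0 ^ 2).sum = (448345497600 : ℕ)) :
    ∃ θ : Suz → ℂ, IsIrrCharacter Suz θ ∧ θ 1 = (d : ℕ) ∧ ∀ (α : MulAut Suz) g, θ (α g) = θ g := by
  have := finite_Suz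
  have := Fintype.ofFinite Suz
  refine ⟨tv fam v, GC.irrFam fam_lt SZ fam_card hv ?_ ?_, ?_, fun α g => ?_⟩
  · rw [h, card_Suz]
  · rw [fam_one]
    exact h0
  · rw [tv, fam_one, hd]
    norm_num
  · rw [tv, tv, fam_aut]

/-- the trivial character -/
def v0 : List ℤ := [
  1, 1, 1, 1, 1, 1, 1, 1, 1, 1, 1, 1, 1, 1, 1, 1, 1, 1, 1, 1, 1, 1, 1, 1, 1, 1, 1, 1, 1, 1, 1, 1, 1, 1, 1, 1,
  1]

/-- the character of degree 780 -/
def v1 : List ℤ := [
  12, 780, -4, -3, -3, -2, 6, 1, -1, -1, -1, 0, 0, 0, 0, 2, 0, 0, 1, 0, 0, 0, 0, 0, 1, 2, 1, 1, 9, 3, 4, 20,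
  3, 4, 10, 28, 105]

/-- the character of degree 1001 -/
def v2 : List ℤ := [
  41, 1001, 9, 2, 2, 1, 11, 4, 0, 0, 0, 1, 1, 1, 1, 3, 0, 0, 1, -1, -1, -1, -1, -1, 0, 1, -2, -2, 8, 0, 1,
  21, -4, -3, 1, 1, 56]

theorem g0 : GC fam v0 := by
  refine GC.of (isGeneralizedCharacter_of_isCharacter isCharacter_one) fun g => ?_
  have h : ∀ i < 37, v0.getD i 0 = 1 := by decide +kernel
  rw [tv, h _ (fam_lt g)]
  simp

theorem cardF {X : Type*} [Fintype X] (P : X → Prop) [DecidablePred P] :
    (Finset.univ.filter fun x => P x).card = Nat.card {x // P x} := by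
  rw [Nat.card_eq_fintype_card, Fintype.card_subtype]

/-- the eigencharacters in terms of the signature -/
theorem gsrg {θ τ : ℤ} (hsum : θ + τ = (100 : ℕ) - (96 : ℕ)) (hprod : θ * τ = (96 : ℕ) - (416 : ℕ)) (hne : θ ≠ τ) (v : List ℤ)
    (h : ∀ i < 37, (θ - τ) * v.getD i 0 = 416 + θ * (((SL.getD i []).getD 1 0 : ℕ) - 1) - ((SL.getD i []).getD 0 0 : ℕ)) :
    GC fam v := by
  classical
  have hfin := finite_Suz
  let := Cfsg.Agent.H689.EB.Suz.act
  have hR := Cfsg.Agent.H689.EB.Suz.rank3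
  have hc := Cfsg.Agent.H447.CTab.isCharacter_srg (G := Suz) (X := Fin 1782) Cfsg.Agent.H689.EB.Suz.A
    (fun g x y => ⟨fun h => by
      have := hR.inv g⁻¹ _ _ h
      rwa [inv_smul_smul, inv_smul_smul] at this, hR.inv g x y⟩) hR.symm hR.irrefl (k0 := 416) (lam := 100) (mu := 96)
    (fun x => by rw [cardF]; exact hR.deg x)
    (fun x y hxy => by
      rw [cardF, ← hR.lam_eq x y hxy]
      exact Nat.card_congr (Equiv.subtypeEquivRight fun z => ⟨fun h => ⟨h.1, hR.symm _ _ h.2⟩, fun h => ⟨h.1, hR.symm _ _ h.2⟩⟩))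
    (fun x y hne hxy => by
      rw [cardF, ← hR.mu_eq x y hne hxy]
      exact Nat.card_congr (Equiv.subtypeEquivRight fun z => ⟨fun h => ⟨h.1, hR.symm _ _ h.2⟩, fun h => ⟨h.1, hR.symm _ _ h.2⟩⟩))
    hsum hprod hne
  refine GC.of (isGeneralizedCharacter_of_isCharacter hc) fun g => ?_
  have h1 : Nat.card (MulAction.fixedBy (Fin 1782) g) = (SL.getD (fam g) []).getD 1 0 := by
    rw [← sg_fam]
    show _ = pwc SuzDat.row (ψ g) (false, 1)
    unfold pwc
    refine Nat.card_congr (Equiv.subtypeEquivRight fun p => ?_)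
    show ψ g p = p ↔ ((ψ g) ^ 1) p = p
    rw [pow_one]
  have h2 : (Finset.univ.filter fun x : Fin 1782 => Cfsg.Agent.H689.EB.Suz.A x (g • x)).card = (SL.getD (fam g) []).getD 0 0 := by
    rw [← sg_fam]
    show _ = pwc SuzDat.row (ψ g) (true, 1)
    unfold pwc
    rw [cardF]
    refine Nat.card_congr (Equiv.subtypeEquivRight fun p => ?_)
    show (OddHalf.Table.SuzGraph.row p).testBit (ψ g p : Fin 1782) = true ↔
      (SuzDat.row p).testBit (((ψ g) ^ 1) p : Fin 1782) = true
    rw [pow_one, H763.Ore.SuzTab.row_eq p.2]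
  have h3 : ((θ : ℂ) - τ) ≠ 0 := by
    rw [sub_ne_zero]
    exact_mod_cast hne
  have h4 := congrArg (fun z : ℤ => (z : ℂ)) (h (fam g) (fam_lt g))
  push_cast at h4
  rw [h1, h2, tv, eq_div_iff h3, mul_comm, h4]
  push_cast
  ring

theorem g1 : GC fam v1 := gsrg (θ := -16) (τ := 20) (by norm_num) (by norm_num) (by norm_num) v1 (by decide +kernel)

theorem g2 : GC fam v2 := gsrg (θ := 20) (τ := -16) (by norm_num) (by norm_num) (by norm_num) v2 (by decide +kernel)

/-- a generalized character -/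
def v3 : List ℤ := [
  144, 608400, 16, 9, 9, 4, 36, 1, 1, 1, 1, 0, 0, 0, 0, 4, 0, 0, 1, 0, 0, 0, 0, 0, 1, 4, 1, 1, 81, 9, 16,
  400, 9, 16, 100, 784, 11025]

theorem g3 : GC fam v3 := gmul g1 g1 v3 (by decide +kernel)

/-- a generalized character -/
def v4 : List ℤ := [
  492, 780780, -36, -6, -6, -2, 66, 4, 0, 0, 0, 0, 0, 0, 0, 6, 0, 0, 1, 0, 0, 0, 0, 0, 0, 2, -2, -2, 72, 0,
  4, 420, -12, -12, 10, 28, 5880]

theorem g4 : GC fam v4 := gmul g1 g2 v4 (by decide +kernel)

/-- a generalized character -/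
def v5 : List ℤ := [
  1681, 1002001, 81, 4, 4, 1, 121, 16, 0, 0, 0, 1, 1, 1, 1, 9, 0, 0, 1, 1, 1, 1, 1, 1, 0, 1, 4, 4, 64, 0, 1,
  441, 16, 9, 1, 1, 3136]

theorem g5 : GC fam v5 := gmul g2 g2 v5 (by decide +kernel)

/-- a generalized character -/
def v6 : List ℤ := [
  3312, 2915056, 48, 24, 136, 0, 46, 12, 0, 1, 0, 0, 0, 1, 16, 2, 1, 1, 1, 0, 4, 0, 0, 0, 0, 2, 0, 0, 84, 4,
  0, 560, 0, 48, 46, 240, 2836]

theorem g6 : GC fam v6 := gadj2 g0 v6 (by decide +kernel)

/-- a generalized character -/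
def v7 : List ℤ := [
  13761, 151236801, 129, 0, 1296, 1, 0, 0, 0, 1, 1, 1, 1, 0, 21, 0, 1, 0, 0, 0, 0, 0, 9, 1, 0, 1, 0, 0, 0, 9,
  9, 2241, 72, 33, 81, 801, 0]

theorem g7 : GC fam v7 := gadj3 g0 v7 (by decide +kernel)

/-- a generalized character -/
def v8 : List ℤ := [
  439, 778999, -41, -5, -5, -1, 49, -1, 1, 1, 1, -1, -1, -1, -1, 1, 0, 0, -1, 1, 1, 1, 1, 1, -1, -1, -1, -1,
  55, -3, -1, 379, -11, -13, -1, -1, 5719]

theorem g8 : GC fam v8 := GC.lin fam_lt [
    (-1, v1), (-1, v2), (1, v4)]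
    (List.forall_mem_cons.2 ⟨g1, List.forall_mem_cons.2 ⟨g2, List.forall_mem_cons.2 ⟨g4, List.forall_mem_nil _⟩⟩⟩) v8 (by decide +kernel)

/-- a generalized character -/
def v9 : List ℤ := [
  1188, 221220, 116, 9, 9, 2, 54, 11, -1, -1, -1, 0, 0, 0, 0, 2, -1, -1, -1, 0, 0, 0, 0, 0, -1, -2, 5, 5, -9,
  -1, -4, 20, 27, 20, -10, -28, -2745]

theorem g9 : GC fam v9 := GC.lin fam_lt [
    (-1, v0), (-1, v4), (1, v5)]
    (List.forall_mem_cons.2 ⟨g0, List.forall_mem_cons.2 ⟨g4, List.forall_mem_cons.2 ⟨g5, List.forall_mem_nil _⟩⟩⟩) v9 (by decide +kernel)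

/-- a generalized character -/
def v10 : List ℤ := [
  1631, 1913055, -33, 20, 132, -1, -75, -4, 0, 1, 0, -1, -1, 0, 15, -7, 1, 1, 0, -1, 3, -1, -1, -1, 0, 1, -4,
  -4, 20, 4, -1, 119, -16, 39, 45, 239, -300]

theorem g10 : GC fam v10 := GC.lin fam_lt [
    (-1, v5), (1, v6)]
    (List.forall_mem_cons.2 ⟨g5, List.forall_mem_cons.2 ⟨g6, List.forall_mem_nil _⟩⟩) v10 (by decide +kernel)

/-- a generalized character -/
def v11 : List ℤ := [
  -361, -173161, 55, 17, 17, 7, -37, -5, 1, 1, 1, -1, -1, -1, -1, -5, -1, -1, -2, -1, -1, -1, -1, -1, -1, -1,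
  1, 1, -1, 5, 7, -41, 17, 23, 79, 727, 5039]

theorem g11 : GC fam v11 := GC.lin fam_lt [
    (-1, v0), (-1, v1), (1, v3), (-1, v4)]
    (List.forall_mem_cons.2 ⟨g0, List.forall_mem_cons.2 ⟨g1, List.forall_mem_cons.2 ⟨g3,
    List.forall_mem_cons.2 ⟨g4, List.forall_mem_nil _⟩⟩⟩⟩) v11 (by decide +kernel)

/-- a generalized character -/
def v12 : List ℤ := [
  -91294, 54453794, -30, -634, -3370, 90, -409, -178, 12, -23, 13, 50, 50, 13, -506, 111, -21, -22, 26, -1,
  -145, -1, 8, 0, 38, 26, 50, 50, -1954, 17, 242, -12930, 416, -1306, -406, 890, -11362]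

theorem g12 : GC fam v12 := GC.lin fam_lt [
    (14, v0), (13, v1), (25, v2), (11, v3), (-11, v4), (10, v5), (-36, v6), (1, v7)]
    (List.forall_mem_cons.2 ⟨g0, List.forall_mem_cons.2 ⟨g1, List.forall_mem_cons.2 ⟨g2,
    List.forall_mem_cons.2 ⟨g3, List.forall_mem_cons.2 ⟨g4, List.forall_mem_cons.2 ⟨g5,
    List.forall_mem_cons.2 ⟨g6, List.forall_mem_cons.2 ⟨g7, List.forall_mem_nil _⟩⟩⟩⟩⟩⟩⟩⟩) v12 (by decide +kernel)

/-- a generalized character -/
def v13 : List ℤ := [
  5268, 607619220, 164, 15, 15, 2, 294, -1, -1, -1, -1, 0, 0, 0, 0, 2, 0, 0, -1, 0, 0, 0, 0, 0, -1, -2, -1,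
  -1, 495, -9, -4, 7580, -33, -52, -10, -28, 600495]

theorem g13 : GC fam v13 := gmul g1 g8 v13 (by decide +kernel)

/-- a generalized character -/
def v14 : List ℤ := [
  14256, 172551600, -464, -27, -27, -4, 324, 11, 1, 1, 1, 0, 0, 0, 0, 4, 0, 0, -1, 0, 0, 0, 0, 0, -1, -4, 5,
  5, -81, -3, -16, 400, 81, 80, -100, -784, -288225]

theorem g14 : GC fam v14 := gmul g1 g9 v14 (by decide +kernel)

/-- a generalized character -/
def v15 : List ℤ := [
  19572, 1492182900, 132, -60, -396, 2, -450, -4, 0, -1, 0, 0, 0, 0, 0, -14, 0, 0, 0, 0, 0, 0, 0, 0, 0, 2,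
  -4, -4, 180, 12, -4, 2380, -48, 156, 450, 6692, -31500]

theorem g15 : GC fam v15 := gmul g1 g10 v15 (by decide +kernel)

/-- a generalized character -/
def v16 : List ℤ := [
  -4332, -135065580, -220, -51, -51, -14, -222, -5, -1, -1, -1, 0, 0, 0, 0, -10, 0, 0, -2, 0, 0, 0, 0, 0, -1,
  -2, 1, 1, -9, 15, 28, -820, 51, 92, 790, 20356, 529095]

theorem g16 : GC fam v16 := gmul g1 g11 v16 (by decide +kernel)

/-- a generalized character -/
def v17 : List ℤ := [
  -1095528, 42473959320, 120, 1902, 10110, -180, -2454, -178, -12, 23, -13, 0, 0, 0, 0, 222, 0, 0, 26, 0, 0,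
  0, 0, 0, 38, 52, 50, 50, -17586, 51, 968, -258600, 1248, -5224, -4060, 24920, -1193010]

theorem g17 : GC fam v17 := gmul g1 g12 v17 (by decide +kernel)

/-- a generalized character -/
def v19 : List ℤ := [
  48708, 221441220, 1044, 18, 18, 2, 594, 44, 0, 0, 0, 0, 0, 0, 0, 6, 0, 0, -1, 0, 0, 0, 0, 0, 0, -2, -10,
  -10, -72, 0, -4, 420, -108, -60, -10, -28, -153720]

theorem g19 : GC fam v19 := gmul g2 g9 v19 (by decide +kernel)

/-- a generalized character -/
def v20 : List ℤ := [
  66871, 1914968055, -297, 40, 264, -1, -825, -16, 0, 0, 0, -1, -1, 0, 15, -21, 0, 0, 0, 1, -3, 1, 1, 1, 0,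
  1, 8, 8, 160, 0, -1, 2499, 64, -117, 45, 239, -16800]

theorem g20 : GC fam v20 := gmul g2 g10 v20 (by decide +kernel)

/-- a generalized character -/
def v22 : List ℤ := [
  -3743054, 54508247794, -270, -1268, -6740, 90, -4499, -712, 0, 0, 0, 50, 50, 13, -506, 333, 0, 0, 26, 1,
  145, 1, -8, 0, 0, 26, -100, -100, -15632, 0, 242, -271530, -1664, 3918, -406, 890, -636272]

theorem g22 : GC fam v22 := gmul g2 g12 v22 (by decide +kernel)

/-- a generalized character -/
def v23 : List ℤ := [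
  -318, 303810, 2, 6, 6, 1, 15, -4, 2, 1, -1, 2, 0, 0, 0, -1, 0, 0, 0, -1, 0, 0, -10, -2, -4, -3, 2, 0, -12,
  3, -6, -190, 6, 2, 45, 386, 5460]

theorem g23 : GC fam v23 := galt g1 v23 (by decide +kernel)

/-- a generalized character -/
def v25 : List ℤ := [
  12, 780, -4, 12, 780, -2, 780, 28, -4, -1, -1, 0, 0, 0, 0, 20, 0, 3, 10, 0, -3, 3, 0, 0, 4, 2, 28, 4, 12,
  3, 4, 20, 12, 4, 10, 28, 780]

theorem g25 : GC fam v25 := gpsi3 g1 v25 (by decide +kernel)

/-- a generalized character -/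
def v26 : List ℤ := [
  6336, 57220800, 0, -12, -84, 0, 96, 12, 0, -1, 0, 0, 0, 0, 0, 0, 0, 0, 1, 0, 0, 0, 0, 0, 0, -4, 0, 0, 84,
  0, 0, 0, 0, 0, 100, 960, 25620]

theorem g26 : GC fam v26 := gadj2 g1 v26 (by decide +kernel)

/-- a generalized character -/
def v27 : List ℤ := [
  972, 796636620, -132, 0, 0, -2, 0, 0, 0, -1, -1, 0, 0, 0, 0, 0, 0, 0, 0, 0, 0, 0, 0, 0, 0, 2, 0, 0, 0, 3,
  12, 4500, 0, 36, 90, 828, 0]

theorem g27 : GC fam v27 := gadj3 g1 v27 (by decide +kernel)

/-- a generalized character -/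
def v28 : List ℤ := [
  340, 500500, 20, 1, 1, 0, 55, 4, -1, 0, 0, -4, 0, 0, 0, -1, 0, 0, 0, -1, 1, 1, -10, 2, -4, 0, 1, 0, 4, 0,
  0, -280, 7, -16, 0, -20, 1540]

theorem g28 : GC fam v28 := galt g2 v28 (by decide +kernel)

/-- a generalized character -/
def v30 : List ℤ := [
  41, 1001, 9, 41, 1001, 1, 1001, 1, 9, 0, 0, 1, 1, 1, 1, 21, 0, 0, 1, -1, 2, -4, -1, -1, -3, 1, 1, 1, 41, 0,
  1, 21, 41, -3, 1, 1, 1001]

theorem g30 : GC fam v30 := gpsi3 g2 v30 (by decide +kernel)

/-- a generalized character -/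
def v31 : List ℤ := [
  3312, 63919856, 48, -12, -52, 0, 146, -24, 0, 0, 0, 0, 0, 1, 16, -2, 0, 0, 1, 0, -4, 0, 0, 0, 0, 2, 0, 0,
  48, 0, 0, -560, 0, -48, 46, 240, 22736]

theorem g31 : GC fam v31 := gadj2 g2 v31 (by decide +kernel)

/-- a generalized character -/
def v32 : List ℤ := [
  2601, 1550349801, 9, 0, -1296, 1, 0, 0, 0, 0, 0, 1, 1, 0, 21, 0, 0, 0, 0, 0, 0, 0, -9, -1, 0, 1, 0, 0, 0,
  0, -15, 6741, -72, -3, 81, -639, 0]

theorem g32 : GC fam v32 := gadj3 g2 v32 (by decide +kernel)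

/-- a generalized character -/
def v33 : List ℤ := [
  -293139, 303419331501, 621, 15, 15, 1, 1176, -27, 3, 0, 2, 21, 1, 1, 1, -24, 0, 0, 1, 0, 0, 0, -189, 7,
  -27, 1, 3, 1, -1347, 6, 1, -317679, 63, -135, 1, -219, 16350621]

theorem g33 : GC fam v33 := galt g8 v33 (by decide +kernel)

/-- a generalized character -/
def v34 : List ℤ := [
  778999, 778999, 439, -5, -5, -1, 49, 55, -5, 1, -3, -41, -1, -1, -1, 49, 0, 0, -1, 1, 1, 1, 379, -13, 55,
  -1, -5, -1, 5719, -3, -1, 778999, -5, 439, -1, 439, 5719]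

theorem g34 : GC fam v34 := gpsi2 g8 v34 (by decide +kernel)

/-- a generalized character -/
def v35 : List ℤ := [
  439, 778999, -41, 439, 778999, -1, 778999, -1, -41, 1, 1, -1, -1, -1, -1, 379, 0, -3, -1, 1, -5, -11, 1, 1,
  -13, -1, -1, -1, 439, -3, -1, 379, 439, -13, -1, -1, 778999]

theorem g35 : GC fam v35 := gpsi3 g8 v35 (by decide +kernel)

/-- a generalized character -/
def v36 : List ℤ := [
  -72432, 1113692944, -48, 12, -1004, 0, 94, -12, 0, 1, 0, 0, 0, -1, -16, 2, 0, 0, -1, 0, 4, 0, 0, 0, 0, -2,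
  0, 0, -84, 0, 0, 560, 0, 48, -46, -240, 161644]

theorem g36 : GC fam v36 := gadj2 g8 v36 (by decide +kernel)

/-- a generalized character -/
def v37 : List ℤ := [
  -41481, 6978950199, 87, 0, 1296, -1, 0, 0, 0, 1, 1, -1, -1, 0, -21, 0, 0, 0, 0, 0, 0, 0, 9, 1, 0, -1, 0, 0,
  0, -3, -9, 2619, 72, -45, -81, -801, 0]

theorem g37 : GC fam v37 := gadj3 g8 v37 (by decide +kernel)

/-- a generalized character -/
def v38 : List ℤ := [
  595062, 24469033590, 6134, 36, 36, 3, 1431, 65, -4, 1, 1, -58, 0, 0, 0, -25, 1, 1, 1, -1, 0, 0, -10, -10,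
  5, 7, 8, 7, 1413, 1, 22, -110410, 360, -394, 55, -202, 3768885]

theorem g38 : GC fam v38 := galt g9 v38 (by decide +kernel)

/-- a generalized character -/
def v39 : List ℤ := [
  221220, 221220, 1188, 9, 9, -2, 54, -9, 9, -1, -1, 116, 0, 0, 0, 54, -1, -1, -1, 2, 0, 0, 20, 20, -9, -10,
  9, 11, -2745, -1, -28, 221220, 9, 1188, -10, 1188, -2745]

theorem g39 : GC fam v39 := gpsi2 g9 v39 (by decide +kernel)

/-- a generalized character -/
def v40 : List ℤ := [
  1188, 221220, 116, 1188, 221220, 2, 221220, -28, 116, -1, -1, 0, 0, 0, 0, 20, -1, -1, -10, 0, 9, 27, 0, 0,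
  20, -2, -28, -4, 1188, -1, -4, 20, 1188, 20, -10, -28, 221220]

theorem g40 : GC fam v40 := gpsi3 g9 v40 (by decide +kernel)

/-- a generalized character -/
def v41 : List ℤ := [
  166464, 216360000, 0, 12, 2196, 0, 144, 60, 0, -1, 0, 0, 0, 0, 0, 0, -1, -1, -1, 0, 0, 0, 0, 0, 0, 4, 0, 0,
  60, -4, 0, 0, 0, 0, -100, -960, -28260]

theorem g41 : GC fam v41 := gadj2 g9 v41 (by decide +kernel)

/-- a generalized character -/
def v42 : List ℤ := [
  199908, 7462350180, -12, 0, 0, 2, 0, 0, 0, -1, -1, 0, 0, 0, 0, 0, -1, 0, 0, 0, 0, 0, 0, 0, 0, -2, 0, 0, 0,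
  -9, 36, 4500, 0, -12, -90, 4932, 0]

theorem g42 : GC fam v42 := gadj3 g9 v42 (by decide +kernel)

/-- a generalized character -/
def v43 : List ℤ := [
  373553, 1829888759985, -271, 134, 8646, 0, 2850, -2, -10, 0, -2, 17, -7, 0, 105, 62, 0, 0, 0, 4, 3, -1,
  -59, -19, -10, -22, -2, 10, 350, 6, -119, -949447, 62, -55, 990, 27745, 45150]

theorem g43 : GC fam v43 := galt g10 v43 (by decide +kernel)

/-- a generalized character -/
def v44 : List ℤ := [
  1913055, 1913055, 1631, 132, 132, 1, -75, 20, 20, 1, 4, -33, 15, 0, 15, -75, 1, 1, 0, -7, 3, 3, 119, 39,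
  20, 45, 20, -4, -300, 4, 239, 1913055, 132, 1631, 45, 1631, -300]

theorem g44 : GC fam v44 := gpsi2 g10 v44 (by decide +kernel)

/-- a generalized character -/
def v45 : List ℤ := [
  1631, 1913055, -33, 1631, 1913055, -1, 1913055, 239, -33, 1, 0, -1, -1, 15, 15, 119, 1, 4, 45, -1, 132,
  -16, -1, -1, 39, 1, 239, -1, 1631, 4, -1, 119, 1631, 39, 45, 239, 1913055]

theorem g45 : GC fam v45 := gpsi3 g10 v45 (by decide +kernel)

/-- a generalized character -/
def v46 : List ℤ := [
  65808, 553128720, -48, -24, 888, 0, -390, -48, 0, 1, 0, 0, 0, 0, 0, -2, 1, 1, 0, 0, 0, 0, 0, 0, 0, -2, 0,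
  0, -48, 4, 0, -560, 0, -48, 90, -240, 56400]

theorem g46 : GC fam v46 := gadj2 g10 v46 (by decide +kernel)

/-- a generalized character -/
def v47 : List ℤ := [
  92511, -8698893345, -33, 0, 3888, -1, 0, 0, 0, 1, 0, -1, -1, 0, 15, 0, 1, 0, 0, 0, 0, 0, -9, -1, 0, 1, 0,
  0, 0, 12, -33, -15561, -72, 39, 45, -2961, 0]

theorem g47 : GC fam v47 := gadj3 g10 v47 (by decide +kernel)

/-- a generalized character -/
def v53 : List ℤ := [
  4140070321, 1482607813270321, 46097, 202663, 5680135, 4037, 83845, 16819, 389, 276, 76, 1265, 1503, 78,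
  128271, 6365, 231, 253, 325, -55, 10585, 73, 6497, 653, 1699, 541, 1567, 1339, 1914739, 136, 28837,
  56365553, 88213, 898465, 82621, 441697, 64553203]

theorem g53 : GC fam v53 := galt g12 v53 (by decide +kernel)

/-- a generalized character -/
def v58 : List ℤ := [
  -576, 133056, 0, 6, 54, -1, 0, 4, 0, 0, 0, 0, 0, -1, -4, 0, 1, 0, 0, 0, 0, 0, 0, 0, 0, -1, -2, 0, 12, 0, 0,
  0, 0, 0, -9, 64, -756]

theorem g58 : GC fam v58 := GC.lin fam_lt [
    (136352274452626973540450116833743348229917, v0), (29592075612024253203613647439477013967699263, v1),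
    (9383861039610117746764875904865456042663025, v2), (19888971185850903499208692305212573180611302, v3),
    (7788820566490165992187474543933189661667829, v4), (-19484842856149084457385912590449112037375678, v5),
    (721170877752973521007691838414305935880850, v6), (1427869976557529491552004299468756700140326, v7),
    (22841516672904279098925437099923854847100682, v13), (31724711154778057234087003678574662577386506, v14),
    (4000680932685791211221866342068666804830592, v15), (-1476863115546269582446099546279858524189588, v16),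
    (93071686178824006284199695442420772856883, v17), (19976358018246439398298284688700767155480328, v19),
    (27177759622694239748089026055297207322099530, v20), (757852574234808961143165223771428909543071, v22),
    (-72225142682531272124514481793163176615343, v23), (197788675165347421957037144667305616908407, v25),
    (643817954967603249846708441633408500055220, v26), (3657420146612636007480005997557824935944633, v27),
    (-682071808797336092678617901427954415300028, v28), (-117704392165772668327845993970707803513167, v30),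
    (1910824778534900791077149708021413229027916, v31), (1685502127577914578182889673495486831382894, v32),
    (22416546293571058175013575930704523865759, v33), (-60365067232321136302138787834397276044019, v34),
    (26924057044815873213174362210247078111828, v35), (2243671961924378633738946120909961108467514, v36),
    (3564099947017385634240846726592654880723156, v37), (-123335874204043703887751127993191160284040, v38),
    (-114285796416661078934659754230357776751341, v39), (23358005244884426505838529997917298155372, v40),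
    (-95831931674074811877946427697952803824732, v41), (958062278524930063132933706775295080421294, v42),
    (-93290643812290285496188061119675105923962, v43), (-60330761812595182099754455414023844204390, v44),
    (-14262052109665072604172584892571210153543, v45), (-1316161884957747428682302031572118337818350, v46),
    (366210055, v47), (-1, v53)]
    (List.forall_mem_cons.2 ⟨g0, List.forall_mem_cons.2 ⟨g1, List.forall_mem_cons.2 ⟨g2,
    List.forall_mem_cons.2 ⟨g3, List.forall_mem_cons.2 ⟨g4, List.forall_mem_cons.2 ⟨g5,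
    List.forall_mem_cons.2 ⟨g6, List.forall_mem_cons.2 ⟨g7, List.forall_mem_cons.2 ⟨g13,
    List.forall_mem_cons.2 ⟨g14, List.forall_mem_cons.2 ⟨g15, List.forall_mem_cons.2 ⟨g16,
    List.forall_mem_cons.2 ⟨g17, List.forall_mem_cons.2 ⟨g19, List.forall_mem_cons.2 ⟨g20,
    List.forall_mem_cons.2 ⟨g22, List.forall_mem_cons.2 ⟨g23, List.forall_mem_cons.2 ⟨g25,
    List.forall_mem_cons.2 ⟨g26, List.forall_mem_cons.2 ⟨g27, List.forall_mem_cons.2 ⟨g28,
    List.forall_mem_cons.2 ⟨g30, List.forall_mem_cons.2 ⟨g31, List.forall_mem_cons.2 ⟨g32,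
    List.forall_mem_cons.2 ⟨g33, List.forall_mem_cons.2 ⟨g34, List.forall_mem_cons.2 ⟨g35,
    List.forall_mem_cons.2 ⟨g36, List.forall_mem_cons.2 ⟨g37, List.forall_mem_cons.2 ⟨g38,
    List.forall_mem_cons.2 ⟨g39, List.forall_mem_cons.2 ⟨g40, List.forall_mem_cons.2 ⟨g41,
    List.forall_mem_cons.2 ⟨g42, List.forall_mem_cons.2 ⟨g43, List.forall_mem_cons.2 ⟨g44,
    List.forall_mem_cons.2 ⟨g45, List.forall_mem_cons.2 ⟨g46, List.forall_mem_cons.2 ⟨g47,
    List.forall_mem_cons.2 ⟨g53, List.forall_mem_nil _⟩⟩⟩⟩⟩⟩⟩⟩⟩⟩⟩⟩⟩⟩⟩⟩⟩⟩⟩⟩⟩⟩⟩⟩⟩⟩⟩⟩⟩⟩⟩⟩⟩⟩⟩⟩⟩⟩⟩⟩) v58 (by decide +kernel)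

/-- a generalized character -/
def v59 : List ℤ := [
  -6912, 103783680, 0, -18, -162, 2, 0, 4, 0, 0, 0, 0, 0, 0, 0, 0, 0, 0, 0, 0, 0, 0, 0, 0, 0, -2, -2, 0, 108,
  0, 0, 0, 0, 0, -90, 1792, -79380]

theorem g59 : GC fam v59 := gmul g1 g58 v59 (by decide +kernel)

/-- the character of degree 243243 -/
def w243243 : List ℤ := [
  -405, 243243, 27, 0, 0, 0, 9, 0, 0, 0, 0, -1, -1, 0, 3, 1, 0, 0, -1, 1, 0, 0, 1, 1, 0, 0, 0, 0, 0, 0, 3,
  -161, 0, -9, 8, -45, 0]

theorem gc243243 : GC fam w243243 := GC.lin fam_lt [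
    (-744309500351533446631704383547893, v0), (-161534987968264302638381126508682506, v1),
    (-51223912104136258412570222609086654, v2), (-108568414170384418531500833406561518, v3),
    (-42517025604777889660012662240294817, v4), (106362388958368121762865201564403734, v5),
    (-3936673134666958927572315322625679, v6), (-7794348815118096500451678881279984, v7),
    (-124685546539873350639707029717016791, v13), (-173176457842024984819966931020432513, v14),
    (-21838614999472042960894148320079352, v15), (8061788862948261696233273476227849, v16),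
    (-508052693031557834420176572487707, v17), (-109045434812824984736956710885726276, v19),
    (-148355902141329500368881197665555720, v20), (-4136908409729622364886304600917485, v22),
    (394257155435498202021784978577859, v23), (-1079673885738216352272774674346209, v25),
    (-3514424840384835507518914451816399, v26), (-19964848938744169077754965886430451, v27),
    (3723242089270708339234599485988905, v28), (642515848553190968828900606110432, v30),
    (-10430666022111525379212444851788329, v31), (-9200691748305443900616330510094073, v32),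
    (-122365750321031346144316441521977, v33), (329516271076107732763561951346756, v34),
    (-146971009665303003678864990003754, v35), (-12247587094800419365815090189869433, v36),
    (-19455439679439305502455252237983995, v37), (673256557492376505118539260318875, v38),
    (623854676202823175710102004532486, v39), (-127504915358553251486292481539319, v40),
    (523120112725620124304588737388925, v41), (-5229798026451650632115643432544069, v42),
    (509247922428483384881309239313065, v43), (329329007241176648673423797909948, v44),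
    (77852613184098059148564534763816, v45), (7184565119337177078127925822298942, v46), (-2, v47)]
    (List.forall_mem_cons.2 ⟨g0, List.forall_mem_cons.2 ⟨g1, List.forall_mem_cons.2 ⟨g2,
    List.forall_mem_cons.2 ⟨g3, List.forall_mem_cons.2 ⟨g4, List.forall_mem_cons.2 ⟨g5,
    List.forall_mem_cons.2 ⟨g6, List.forall_mem_cons.2 ⟨g7, List.forall_mem_cons.2 ⟨g13,
    List.forall_mem_cons.2 ⟨g14, List.forall_mem_cons.2 ⟨g15, List.forall_mem_cons.2 ⟨g16,
    List.forall_mem_cons.2 ⟨g17, List.forall_mem_cons.2 ⟨g19, List.forall_mem_cons.2 ⟨g20,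
    List.forall_mem_cons.2 ⟨g22, List.forall_mem_cons.2 ⟨g23, List.forall_mem_cons.2 ⟨g25,
    List.forall_mem_cons.2 ⟨g26, List.forall_mem_cons.2 ⟨g27, List.forall_mem_cons.2 ⟨g28,
    List.forall_mem_cons.2 ⟨g30, List.forall_mem_cons.2 ⟨g31, List.forall_mem_cons.2 ⟨g32,
    List.forall_mem_cons.2 ⟨g33, List.forall_mem_cons.2 ⟨g34, List.forall_mem_cons.2 ⟨g35,
    List.forall_mem_cons.2 ⟨g36, List.forall_mem_cons.2 ⟨g37, List.forall_mem_cons.2 ⟨g38,
    List.forall_mem_cons.2 ⟨g39, List.forall_mem_cons.2 ⟨g40, List.forall_mem_cons.2 ⟨g41,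
    List.forall_mem_cons.2 ⟨g42, List.forall_mem_cons.2 ⟨g43, List.forall_mem_cons.2 ⟨g44,
    List.forall_mem_cons.2 ⟨g45, List.forall_mem_cons.2 ⟨g46, List.forall_mem_cons.2 ⟨g47, List.forall_mem_nil _⟩⟩⟩⟩⟩⟩⟩⟩⟩⟩⟩⟩⟩⟩⟩⟩⟩⟩⟩⟩⟩⟩⟩⟩⟩⟩⟩⟩⟩⟩⟩⟩⟩⟩⟩⟩⟩⟩⟩) w243243 (by decide +kernel)

/-- **the character of degree 243243** -/
theorem irr243243 : ∃ θ : Suz → ℂ, IsIrrCharacter Suz θ ∧ θ 1 = (243243 : ℕ) ∧ ∀ (α : MulAut Suz) g, θ (α g) = θ g :=
  girr gc243243 rfl (by decide +kernel) (by decide +kernel)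

/-- the character of degree 197120 -/
def w197120 : List ℤ := [
  512, 197120, 0, -4, 20, 0, -16, 0, 0, 0, 0, 0, 0, 0, 0, 0, 1, 0, -1, 0, -1, -1, 0, 0, 0, 2, 0, 0, -16, 0,
  0, 0, 8, 0, -10, 0, 560]

theorem gc197120 : GC fam w197120 := GC.lin fam_lt [
    (1227170479009092838782577016366174271988112, v0), (266328682447448961746493404385928433298537775, v1),
    (84454749971435124165578915219137450192302459, v2), (179000741976024062320722184115378137362313015, v3),
    (70099385608829216034712977296980492856249904, v4), (-175363586982224315223484053353528674646425343, v5),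
    (6490537947036599494914186474749016410938633, v6), (12850829882589075056161866812379618093583566, v7),
    (205573651552990931339692525034249457544367784, v13),
    (285522402471989271038511218519207239024983996, v14),
    (36006128656345120150185425073570014405724230, v15),
    (-13291768136698358867501839995585095483937967, v16), (837645181708598551048907567410929618678249, v17),
    (179787223473310527534084367976641662508399032, v19),
    (244599838385263658104586731820209572024445874, v20), (6820673217776946840851702101260865809869822, v22),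
    (-650026288875846294051362858541981461645341, v23), (1780098089449632865734278905010848918003309, v25),
    (5794361636899168041433850676532199699478801, v26), (32916781559192125190929738705969629899847178, v27),
    (-6138646323873618774864121243701840850270710, v28), (-1059339537205369315527133197852705120052440, v30),
    (17197423132034456269569155872147619488502723, v31), (15169519258655715193533386418566820636550339, v32),
    (201748918111142744146469075956433221796639, v33), (-543285609046739491497274047777370935439818, v34),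
    (242316515167732698089482846080856988335364, v35), (20193047804351929788366488651876241076476596, v36),
    (32076899756719403732701771509000984997397975, v37), (-1110022875918851446286073424888181554558452, v38),
    (-1028572175239337272749551686938413713865650, v39), (210222048734658835690139262658283819704945, v40),
    (-862487391346740468860510255831280573035857, v41), (8622560569508197935246188030227014044067572, v42),
    (-839615800424143816191793311995368228805867, v43), (-542976860266957797683014038360070745917629, v44),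
    (-128358469921607794006236464879122814532375, v45), (-11845457050870571322557041025251833380519284, v46),
    (3295890519, v47), (-9, v53), (-1, v59)]
    (List.forall_mem_cons.2 ⟨g0, List.forall_mem_cons.2 ⟨g1, List.forall_mem_cons.2 ⟨g2,
    List.forall_mem_cons.2 ⟨g3, List.forall_mem_cons.2 ⟨g4, List.forall_mem_cons.2 ⟨g5,
    List.forall_mem_cons.2 ⟨g6, List.forall_mem_cons.2 ⟨g7, List.forall_mem_cons.2 ⟨g13,
    List.forall_mem_cons.2 ⟨g14, List.forall_mem_cons.2 ⟨g15, List.forall_mem_cons.2 ⟨g16,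
    List.forall_mem_cons.2 ⟨g17, List.forall_mem_cons.2 ⟨g19, List.forall_mem_cons.2 ⟨g20,
    List.forall_mem_cons.2 ⟨g22, List.forall_mem_cons.2 ⟨g23, List.forall_mem_cons.2 ⟨g25,
    List.forall_mem_cons.2 ⟨g26, List.forall_mem_cons.2 ⟨g27, List.forall_mem_cons.2 ⟨g28,
    List.forall_mem_cons.2 ⟨g30, List.forall_mem_cons.2 ⟨g31, List.forall_mem_cons.2 ⟨g32,
    List.forall_mem_cons.2 ⟨g33, List.forall_mem_cons.2 ⟨g34, List.forall_mem_cons.2 ⟨g35,
    List.forall_mem_cons.2 ⟨g36, List.forall_mem_cons.2 ⟨g37, List.forall_mem_cons.2 ⟨g38,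
    List.forall_mem_cons.2 ⟨g39, List.forall_mem_cons.2 ⟨g40, List.forall_mem_cons.2 ⟨g41,
    List.forall_mem_cons.2 ⟨g42, List.forall_mem_cons.2 ⟨g43, List.forall_mem_cons.2 ⟨g44,
    List.forall_mem_cons.2 ⟨g45, List.forall_mem_cons.2 ⟨g46, List.forall_mem_cons.2 ⟨g47,
    List.forall_mem_cons.2 ⟨g53, List.forall_mem_cons.2 ⟨g59, List.forall_mem_nil _⟩⟩⟩⟩⟩⟩⟩⟩⟩⟩⟩⟩⟩⟩⟩⟩⟩⟩⟩⟩⟩⟩⟩⟩⟩⟩⟩⟩⟩⟩⟩⟩⟩⟩⟩⟩⟩⟩⟩⟩⟩) w197120 (by decide +kernel)

/-- **the character of degree 197120** -/
theorem irr197120 : ∃ θ : Suz → ℂ, IsIrrCharacter Suz θ ∧ θ 1 = (197120 : ℕ) ∧ ∀ (α : MulAut Suz) g, θ (α g) = θ g :=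
  girr gc197120 rfl (by decide +kernel) (by decide +kernel)

end Cfsg.Agent.H714.S8.SuzFam
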