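import Cfsg.Agent.H806.SB.Adj
import Cfsg.Agent.H123.Cls.ListCover

/-!
# Adjoint Adams operations for families closed under automorphisms, sizes of families (helper714)

`GC.adjA` : helper806's adjoint Adams operation for a table whose families are orbits of automorphisms.
`ncard_cl` : the size of a class of a permutation under `A` from a bound of the centralizer.
-/

set_option autoImplicit false

namespace Cfsg.Agent.H714.S8.Fam

open Cfsg Cfsg.Agent.Characters.Brauer Cfsg.Agent.Characters.Core Cfsg.Agent.H300.Cls Cfsg.Agent.H806.SB.Adj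
open scoped ComplexConjugate

section

variable {G : Type*} [Group G]

/-- the sum over the group by families -/
theorem sum_fam [Fintype G] {fam : G → ℕ} {N : ℕ} (hf : ∀ g, fam g < N) (s : List ℕ)
    (hs : ∀ i, (Finset.univ.filter fun g : G => fam g = i).card = s.getD i 0) (f : ℕ → ℤ) :
    ∑ g : G, f (fam g) = ((List.range N).map fun i => (s.getD i 0 : ℤ) * f i).sum := by
  classical
  have h2 : ∑ x : G, f (fam x) = ∑ i ∈ Finset.range N, ∑ x ∈ Finset.univ.filter (fun g : G => fam g = i), f (fam x) := by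
    rw [Finset.sum_fiberwise_of_maps_to (g := fam)]
    intro x _
    exact Finset.mem_range.2 (hf x)
  rw [h2]
  have h3 : ∀ i ∈ Finset.range N, ∑ x ∈ Finset.univ.filter (fun g : G => fam g = i), f (fam x) = (s.getD i 0 : ℤ) * f i := by
    intro i _
    rw [Finset.sum_congr rfl fun x hx => by rw [(Finset.mem_filter.1 hx).2], Finset.sum_const, hs, nsmul_eq_mul]
  rw [Finset.sum_congr rfl h3]
  rfl

/-- the version for tables whose families are orbits of automorphisms -/
theorem GC.adjA [Fintype G] {fam : G → ℕ} {N : ℕ} (hf : ∀ g, fam g < N) {k : ℕ} {P : List ℕ}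
    (hP : ∀ g, fam (g ^ k) = P.getD (fam g) 0) (s : List ℕ)
    (hs : ∀ i, (Finset.univ.filter fun g : G => fam g = i).card = s.getD i 0)
    (hG : ∀ y y' : G, fam y = fam y' → ∃ σ : MulAut G, σ y = y' ∧ ∀ g, fam (σ g) = fam g)
    {v : List ℤ} (hv : GC fam v) (r : List ℤ)
    (h : chkAll N (fun t => decide ((s.getD t 0 : ℤ) * r.getD t 0 =
      ((List.range N).map fun i => if P.getD i 0 = t then (s.getD i 0 : ℤ) * v.getD i 0 else 0).sum)) = true) :
    GC fam r := by
  classical
  rw [chkAll_iff] at h
  refine GC.of (isGeneralizedCharacter_adj hv k) fun y0 => ?_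
  -- constant on the families
  have hconst : ∀ y : G, fam y = fam y0 → adj k (tv fam v) y = adj k (tv fam v) y0 := by
    intro y hy
    obtain ⟨σ, hσ, hσf⟩ := hG y y0 hy
    rw [← hσ, adj, adj]
    refine Fintype.sum_equiv σ.toEquiv _ _ fun x => ?_
    have e1 : σ.toEquiv x = σ x := rfl
    have e2 : (σ x) ^ k = σ y ↔ x ^ k = y := by
      rw [← map_pow]
      exact σ.injective.eq_iff
    rw [e1, tv, tv, hσf]
    simp only [e2]
  -- total
  have htot : ∑ y ∈ Finset.univ.filter (fun g : G => fam g = fam y0), adj k (tv fam v) y =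
      ((((List.range N).map fun i => if P.getD i 0 = fam y0 then (s.getD i 0 : ℤ) * v.getD i 0 else 0).sum : ℤ) : ℂ) := by
    have h1 : ∑ y ∈ Finset.univ.filter (fun g : G => fam g = fam y0), adj k (tv fam v) y =
        ∑ x : G, if P.getD (fam x) 0 = fam y0 then tv fam v x else 0 := by
      simp only [adj]
      rw [Finset.sum_comm]
      refine Finset.sum_congr rfl fun x _ => ?_
      rw [Finset.sum_ite_eq (Finset.univ.filter (fun g : G => fam g = fam y0)) (x ^ k) fun _ => tv fam v x]
      simp only [Finset.mem_filter, Finset.mem_univ, true_and, hP]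
    rw [h1]
    have h2 := sum_fam hf s hs (fun i => if P.getD i 0 = fam y0 then v.getD i 0 else 0)
    have h3 : ((∑ g : G, (if P.getD (fam g) 0 = fam y0 then v.getD (fam g) 0 else 0) : ℤ) : ℂ) =
        ∑ x : G, if P.getD (fam x) 0 = fam y0 then tv fam v x else 0 := by
      rw [Int.cast_sum]
      refine Finset.sum_congr rfl fun x _ => ?_
      rw [tv]
      split_ifs <;> simp
    rw [← h3, h2]
    congr 2
    refine List.map_congr_left fun i _ => ?_
    split_ifs <;> simp
  have h5 : ∑ y ∈ Finset.univ.filter (fun g : G => fam g = fam y0), adj k (tv fam v) y =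
      (s.getD (fam y0) 0 : ℂ) * adj k (tv fam v) y0 := by
    rw [Finset.sum_congr rfl fun y hy => hconst y (Finset.mem_filter.1 hy).2, Finset.sum_const, hs, nsmul_eq_mul]
  have h6 := of_decide_eq_true (h _ (hf y0))
  rw [h5, ← h6] at htot
  have h7 : (s.getD (fam y0) 0 : ℂ) ≠ 0 := by
    rw [Nat.cast_ne_zero, ← hs]
    have hy : y0 ∈ Finset.univ.filter (fun g : G => fam g = fam y0) := by simp
    exact (Finset.card_pos.2 ⟨y0, hy⟩).ne'
  rw [Int.cast_mul, Int.cast_natCast] at htot
  have h8 := mul_left_cancel₀ h7 htot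
  rw [tv]
  exact h8.symm

/-- an irreducible character from a table, by the sizes of the families -/
theorem GC.irrFam [Fintype G] {fam : G → ℕ} {N : ℕ} (hf : ∀ g, fam g < N) (s : List ℕ)
    (hs : ∀ i, (Finset.univ.filter fun g : G => fam g = i).card = s.getD i 0) {v : List ℤ} (hv : GC fam v)
    (hsum : ((List.range N).map fun i => (s.getD i 0 : ℤ) * v.getD i 0 ^ 2).sum = Nat.card G)
    (h1 : 0 < v.getD (fam 1) 0) : IsIrrCharacter G (tv fam v) := by
  refine Cfsg.Agent.H621.AltChar.isIrr_of_int G hv (fun g => v.getD (fam g) 0) (fun g => rfl) ?_ h1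
  rw [sum_fam hf s hs (fun i => v.getD i 0 ^ 2), hsum]

end

section

open Equiv

variable {n : ℕ}

/-- the size of a class -/
theorem ncard_cl {A : Subgroup (Perm (Fin n))} (r : Perm (Fin n)) {c : ℕ}
    (hc : Nat.card ↥(A ⊓ Subgroup.centralizer {r}) ≤ c) :
    Nat.card A / c ≤ {x | ∃ a ∈ A, x = a * r * a⁻¹}.ncard := by
  classical
  set cl : Set (Perm (Fin n)) := {x | ∃ a ∈ A, x = a * r * a⁻¹} with hcl
  have h1 : Nat.card A = Nat.card ↥(A ⊓ Subgroup.centralizer {r}) * cl.ncard := by
    let C : Subgroup A := (A ⊓ Subgroup.centralizer {r}).subgroupOf A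
    have e1 : Nat.card C = Nat.card ↥(A ⊓ Subgroup.centralizer {r}) :=
      Nat.card_congr (Subgroup.subgroupOfEquivOfLe inf_le_left).toEquiv
    have e2 : Nat.card (A ⧸ C) = cl.ncard := by
      rw [← Nat.card_coe_set_eq]
      refine Nat.card_congr (Equiv.ofBijective (fun q : A ⧸ C => Quotient.liftOn' q
        (fun a => (⟨(a : Perm (Fin n)) * r * (a : Perm (Fin n))⁻¹, a, a.2, rfl⟩ : cl)) ?_) ⟨?_, ?_⟩)
      · intro a b hab
        rw [QuotientGroup.leftRel_apply] at hab
        have h2 := (Subgroup.mem_inf.1 (Subgroup.mem_subgroupOf.1 hab)).2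
        rw [Subgroup.mem_centralizer_singleton_iff] at h2
        apply Subtype.ext
        change ((a : Perm (Fin n))⁻¹ * b) * r = r * ((a : Perm (Fin n))⁻¹ * b) at h2
        change (a : Perm (Fin n)) * r * (a : Perm (Fin n))⁻¹ = b * r * (b : Perm (Fin n))⁻¹
        calc (a : Perm (Fin n)) * r * (a : Perm (Fin n))⁻¹ =
            a * (r * ((a : Perm (Fin n))⁻¹ * b)) * (b : Perm (Fin n))⁻¹ := by group
          _ = a * ((a : Perm (Fin n))⁻¹ * b * r) * (b : Perm (Fin n))⁻¹ := by rw [h2]
          _ = b * r * (b : Perm (Fin n))⁻¹ := by group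
      · intro q q' h
        induction q using Quotient.inductionOn' with
        | h a =>
          induction q' using Quotient.inductionOn' with
          | h b =>
            have h2 : (a : Perm (Fin n)) * r * (a : Perm (Fin n))⁻¹ = b * r * (b : Perm (Fin n))⁻¹ :=
              congrArg Subtype.val h
            refine Quotient.sound' ?_
            rw [QuotientGroup.leftRel_apply]
            refine Subgroup.mem_subgroupOf.2 (Subgroup.mem_inf.2 ⟨(a⁻¹ * b).2, ?_⟩)
            rw [Subgroup.mem_centralizer_singleton_iff]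
            change ((a : Perm (Fin n))⁻¹ * b) * r = r * ((a : Perm (Fin n))⁻¹ * b)
            calc ((a : Perm (Fin n))⁻¹ * b) * r =
                (a : Perm (Fin n))⁻¹ * (b * r * (b : Perm (Fin n))⁻¹) * b := by group
              _ = (a : Perm (Fin n))⁻¹ * (a * r * (a : Perm (Fin n))⁻¹) * b := by rw [h2]
              _ = r * ((a : Perm (Fin n))⁻¹ * b) := by group
      · rintro ⟨x, a, ha, rfl⟩
        exact ⟨Quotient.mk'' ⟨a, ha⟩, rfl⟩
    rw [← e1, ← e2, mul_comm]
    exact Subgroup.card_eq_card_quotient_mul_card_subgroup C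
  have h0 : 0 < Nat.card ↥(A ⊓ Subgroup.centralizer {r}) := Nat.card_pos
  calc Nat.card A / c ≤ Nat.card A / Nat.card ↥(A ⊓ Subgroup.centralizer {r}) := Nat.div_le_div_left hc h0
    _ = cl.ncard := by
      rw [h1, Nat.mul_div_cancel_left _ h0]

end

end Cfsg.Agent.H714.S8.Fam
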