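import Cfsg.Agent.H714.S8.SuzKey

set_option autoImplicit false
set_option maxRecDepth 1000000
set_option exponentiation.threshold 5000

namespace Cfsg.Agent.H714.S8.SuzFam

open Cfsg.Agent.H123.Cls Cfsg.Agent.H123.Cls.SuzDat

theorem sq0 : chkSig 1782 11 row 11 p0 key2 [0, 1782, 0, 1782, 0, 1782, 1782] = true := by decide +kernel

theorem cu0 : chkSig 1782 11 row 11 p0 key3 [0, 54, 0, 1782, 0, 54, 54] = true := by decide +kernel

theorem sq4 : chkSig 1782 11 row 11 p4 key2 [324, 0, 324, 0, 0, 1782, 0] = true := by decide +kernel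

theorem cu4 : chkSig 1782 11 row 11 p4 key3 [0, 1782, 0, 1782, 0, 1782, 1782] = true := by decide +kernel

theorem sq8 : chkSig 1782 11 row 11 p8 key2 [324, 0, 324, 0, 0, 54, 0] = true := by decide +kernel

theorem cu8 : chkSig 1782 11 row 11 p8 key3 [192, 6, 0, 54, 192, 6, 6] = true := by decide +kernel

theorem sq12 : chkSig 1782 11 row 11 p12 key2 [400, 2, 400, 2, 400, 2, 1782] = true := by decide +kernel

theorem cu12 : chkSig 1782 11 row 11 p12 key3 [400, 2, 400, 2, 400, 2, 42] = true := by decide +kernel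

theorem sq16 : chkSig 1782 11 row 11 p16 key2 [416, 1, 416, 1, 416, 1, 1] = true := by decide +kernel

theorem cu16 : chkSig 1782 11 row 11 p16 key3 [416, 1, 416, 1, 416, 1, 1] = true := by decide +kernel

theorem sq20 : chkSig 1782 11 row 11 p20 key2 [432, 0, 432, 0, 324, 0, 0] = true := by decide +kernel

theorem cu20 : chkSig 1782 11 row 11 p20 key3 [324, 0, 324, 0, 0, 1782, 0] = true := by decide +kernel

theorem sq24 : chkSig 1782 11 row 11 p24 key2 [468, 18, 1620, 162, 0, 54, 18] = true := by decide +kernel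

theorem cu24 : chkSig 1782 11 row 11 p24 key3 [544, 2, 0, 54, 544, 2, 2] = true := by decide +kernel

theorem sq28 : chkSig 1782 11 row 11 p28 key2 [1620, 162, 1620, 162, 0, 1782, 162] = true := by decide +kernel

theorem cu28 : chkSig 1782 11 row 11 p28 key3 [0, 54, 0, 1782, 0, 54, 54] = true := by decide +kernel

theorem sq32 : chkSig 1782 11 row 11 p32 key2 [324, 0, 324, 0, 0, 1782, 0] = true := by decide +kernel

theorem cu32 : chkSig 1782 11 row 11 p32 key3 [0, 54, 0, 1782, 0, 54, 54] = true := by decide +kernel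

theorem sq36 : chkSig 1782 11 row 11 p36 key2 [1620, 162, 1620, 162, 0, 1782, 162] = true := by decide +kernel

theorem cu36 : chkSig 1782 11 row 11 p36 key3 [0, 1782, 0, 1782, 0, 1782, 1782] = true := by decide +kernel

end Cfsg.Agent.H714.S8.SuzFam
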