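import Cfsg.Agent.H714.S8.SuzKey

set_option autoImplicit false
set_option maxRecDepth 1000000
set_option exponentiation.threshold 5000

namespace Cfsg.Agent.H714.S8.SuzFam

open Cfsg.Agent.H123.Cls Cfsg.Agent.H123.Cls.SuzDat

theorem sq1 : chkSig 1782 11 row 11 p1 key2 [0, 1782, 0, 1782, 0, 1782, 1782] = true := by decide +kernel

theorem cu1 : chkSig 1782 11 row 11 p1 key3 [0, 1782, 0, 1782, 0, 1782, 1782] = true := by decide +kernel

theorem sq5 : chkSig 1782 11 row 11 p5 key2 [440, 4, 600, 12, 440, 4, 54] = true := by decide +kernel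

theorem cu5 : chkSig 1782 11 row 11 p5 key3 [360, 0, 440, 4, 360, 0, 30] = true := by decide +kernel

theorem sq9 : chkSig 1782 11 row 11 p9 key2 [396, 0, 396, 0, 396, 0, 0] = true := by decide +kernel

theorem cu9 : chkSig 1782 11 row 11 p9 key3 [396, 0, 396, 0, 396, 0, 0] = true := by decide +kernel

theorem sq13 : chkSig 1782 11 row 11 p13 key2 [400, 2, 400, 2, 400, 2, 162] = true := by decide +kernel

theorem cu13 : chkSig 1782 11 row 11 p13 key3 [400, 2, 400, 2, 400, 2, 1782] = true := by decide +kernel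

theorem sq17 : chkSig 1782 11 row 11 p17 key2 [416, 1, 416, 1, 476, 4, 1] = true := by decide +kernel

theorem cu17 : chkSig 1782 11 row 11 p17 key3 [476, 4, 476, 4, 476, 4, 4] = true := by decide +kernel

theorem sq21 : chkSig 1782 11 row 11 p21 key2 [432, 0, 432, 0, 324, 0, 0] = true := by decide +kernel

theorem cu21 : chkSig 1782 11 row 11 p21 key3 [540, 0, 324, 0, 0, 54, 0] = true := by decide +kernel

theorem sq25 : chkSig 1782 11 row 11 p25 key2 [600, 12, 600, 12, 600, 12, 1782] = true := by decide +kernel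

theorem cu25 : chkSig 1782 11 row 11 p25 key3 [440, 4, 600, 12, 440, 4, 54] = true := by decide +kernel

theorem sq29 : chkSig 1782 11 row 11 p29 key2 [476, 4, 476, 4, 476, 4, 4] = true := by decide +kernel

theorem cu29 : chkSig 1782 11 row 11 p29 key3 [476, 4, 476, 4, 476, 4, 4] = true := by decide +kernel

theorem sq33 : chkSig 1782 11 row 11 p33 key2 [0, 54, 0, 1782, 0, 54, 54] = true := by decide +kernel

theorem cu33 : chkSig 1782 11 row 11 p33 key3 [544, 2, 0, 54, 544, 2, 2] = true := by decide +kernel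

end Cfsg.Agent.H714.S8.SuzFam
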