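import Cfsg.Agent.H714.S8.SuzKey

set_option autoImplicit false
set_option maxRecDepth 1000000
set_option exponentiation.threshold 5000

namespace Cfsg.Agent.H714.S8.SuzFam

open Cfsg.Agent.H123.Cls Cfsg.Agent.H123.Cls.SuzDat

theorem sq2 : chkSig 1782 11 row 11 p2 key2 [0, 54, 0, 1782, 0, 54, 54] = true := by decide +kernel

theorem cu2 : chkSig 1782 11 row 11 p2 key3 [192, 6, 0, 54, 192, 6, 6] = true := by decide +kernel

theorem sq6 : chkSig 1782 11 row 11 p6 key2 [360, 18, 360, 18, 0, 1782, 18] = true := by decide +kernel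

theorem cu6 : chkSig 1782 11 row 11 p6 key3 [0, 1782, 0, 1782, 0, 1782, 1782] = true := by decide +kernel

theorem sq10 : chkSig 1782 11 row 11 p10 key2 [476, 4, 476, 4, 476, 4, 4] = true := by decide +kernel

theorem cu10 : chkSig 1782 11 row 11 p10 key3 [396, 0, 476, 4, 396, 0, 0] = true := by decide +kernel

theorem sq14 : chkSig 1782 11 row 11 p14 key2 [400, 2, 400, 2, 400, 2, 1782] = true := by decide +kernel

theorem cu14 : chkSig 1782 11 row 11 p14 key3 [400, 2, 400, 2, 400, 2, 1782] = true := by decide +kernel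

theorem sq18 : chkSig 1782 11 row 11 p18 key2 [420, 3, 420, 3, 600, 12, 18] = true := by decide +kernel

theorem cu18 : chkSig 1782 11 row 11 p18 key3 [600, 12, 600, 12, 600, 12, 1782] = true := by decide +kernel

theorem sq22 : chkSig 1782 11 row 11 p22 key2 [480, 42, 0, 1782, 480, 42, 42] = true := by decide +kernel

theorem cu22 : chkSig 1782 11 row 11 p22 key3 [432, 0, 480, 42, 432, 0, 0] = true := by decide +kernel

theorem sq26 : chkSig 1782 11 row 11 p26 key2 [324, 0, 324, 0, 0, 54, 0] = true := by decide +kernel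

theorem cu26 : chkSig 1782 11 row 11 p26 key3 [960, 30, 0, 54, 960, 30, 30] = true := by decide +kernel

theorem sq30 : chkSig 1782 11 row 11 p30 key2 [960, 30, 0, 54, 960, 30, 30] = true := by decide +kernel

theorem cu30 : chkSig 1782 11 row 11 p30 key3 [480, 6, 960, 30, 480, 6, 6] = true := by decide +kernel

theorem sq34 : chkSig 1782 11 row 11 p34 key2 [600, 12, 600, 12, 600, 12, 1782] = true := by decide +kernel

theorem cu34 : chkSig 1782 11 row 11 p34 key3 [600, 12, 600, 12, 600, 12, 1782] = true := by decide +kernel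

end Cfsg.Agent.H714.S8.SuzFam
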