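import Cfsg.Agent.H714.S8.SuzKey

set_option autoImplicit false
set_option maxRecDepth 1000000
set_option exponentiation.threshold 5000

namespace Cfsg.Agent.H714.S8.SuzFam

open Cfsg.Agent.H123.Cls Cfsg.Agent.H123.Cls.SuzDat

theorem sq3 : chkSig 1782 11 row 11 p3 key2 [324, 0, 324, 0, 0, 1782, 0] = true := by decide +kernel

theorem cu3 : chkSig 1782 11 row 11 p3 key3 [0, 54, 0, 1782, 0, 54, 54] = true := by decide +kernel

theorem sq7 : chkSig 1782 11 row 11 p7 key2 [468, 18, 1620, 162, 0, 54, 18] = true := by decide +kernel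

theorem cu7 : chkSig 1782 11 row 11 p7 key3 [960, 30, 0, 54, 960, 30, 30] = true := by decide +kernel

theorem sq11 : chkSig 1782 11 row 11 p11 key2 [192, 6, 0, 54, 192, 6, 6] = true := by decide +kernel

theorem cu11 : chkSig 1782 11 row 11 p11 key3 [400, 2, 192, 6, 400, 2, 2] = true := by decide +kernel

theorem sq15 : chkSig 1782 11 row 11 p15 key2 [360, 18, 360, 18, 0, 1782, 18] = true := by decide +kernel

theorem cu15 : chkSig 1782 11 row 11 p15 key3 [480, 42, 0, 1782, 480, 42, 42] = true := by decide +kernel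

theorem sq19 : chkSig 1782 11 row 11 p19 key2 [408, 6, 360, 18, 480, 42, 6] = true := by decide +kernel

theorem cu19 : chkSig 1782 11 row 11 p19 key3 [432, 0, 480, 42, 432, 0, 0] = true := by decide +kernel

theorem sq23 : chkSig 1782 11 row 11 p23 key2 [544, 2, 0, 54, 544, 2, 2] = true := by decide +kernel

theorem cu23 : chkSig 1782 11 row 11 p23 key3 [432, 0, 544, 2, 432, 0, 0] = true := by decide +kernel

theorem sq27 : chkSig 1782 11 row 11 p27 key2 [372, 6, 468, 18, 960, 30, 6] = true := by decide +kernel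

theorem cu27 : chkSig 1782 11 row 11 p27 key3 [480, 6, 960, 30, 480, 6, 6] = true := by decide +kernel

theorem sq31 : chkSig 1782 11 row 11 p31 key2 [0, 1782, 0, 1782, 0, 1782, 1782] = true := by decide +kernel

theorem cu31 : chkSig 1782 11 row 11 p31 key3 [480, 42, 0, 1782, 480, 42, 42] = true := by decide +kernel

theorem sq35 : chkSig 1782 11 row 11 p35 key2 [0, 54, 0, 1782, 0, 54, 54] = true := by decide +kernel

theorem cu35 : chkSig 1782 11 row 11 p35 key3 [960, 30, 0, 54, 960, 30, 30] = true := by decide +kernel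

end Cfsg.Agent.H714.S8.SuzFam
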