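import Cfsg.Agent.H714.S8.AdjA
import Cfsg.Agent.H714.S8.SuzPA
import Cfsg.Agent.H714.S8.SuzPB
import Cfsg.Agent.H714.S8.SuzPC
import Cfsg.Agent.H714.S8.SuzPD
import Cfsg.Agent.H123.Cls.SuzOre
import Cfsg.Agent.H689.EB.RowSuz
import Cfsg.Agent.H447.CTabLam

/-!
# The 37 families of elements of `Suz` (helper714)

`fam g` : the number of the class under `Suz : 2` of `g : Suz` (helper123's representatives), the sizes of the families,
squares and cubes of the families, invariance under automorphisms.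
-/

set_option autoImplicit false
set_option maxRecDepth 1000000
set_option exponentiation.threshold 5000

namespace Cfsg.Agent.H714.S8.SuzFam

open Cfsg Cfsg.Spor Cfsg.Agent.H123.Cls Cfsg.Agent.H123.Cls.SuzDat Cfsg.Agent.H300.Cls Cfsg.Agent.Lib.BitNet
open Cfsg.Agent.H763.Ore.SuzModel (A N A_conj card_A card_N N_le_A T_mem_A)
open Cfsg.Agent.OddHalf.Table.SuzRep (ψ ψ_val ψ_injective)
open Cfsg.Agent.H714.S8.Fam
open Cfsg.Agent.SporadicRecognition.SuzOrder (card_Suz)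

/-- the signatures of the representatives -/
def SL : List (List ℕ) := [
  [0, 54, 0, 1782, 0, 54, 54], [0, 1782, 0, 1782, 0, 1782, 1782], [192, 6, 0, 54, 192, 6, 6],
  [324, 0, 324, 0, 0, 54, 0], [324, 0, 324, 0, 0, 1782, 0], [360, 0, 440, 4, 360, 0, 30],
  [360, 18, 360, 18, 0, 1782, 18], [372, 6, 468, 18, 960, 30, 6], [396, 0, 324, 0, 192, 6, 0],
  [396, 0, 396, 0, 396, 0, 0], [396, 0, 476, 4, 396, 0, 0], [400, 2, 192, 6, 400, 2, 2],
  [400, 2, 400, 2, 400, 2, 42], [400, 2, 400, 2, 400, 2, 162], [400, 2, 400, 2, 400, 2, 1782],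
  [408, 6, 360, 18, 480, 42, 6], [416, 1, 416, 1, 416, 1, 1], [416, 1, 416, 1, 476, 4, 1],
  [420, 3, 420, 3, 600, 12, 18], [432, 0, 408, 6, 432, 0, 0], [432, 0, 432, 0, 324, 0, 0],
  [432, 0, 432, 0, 540, 0, 0], [432, 0, 480, 42, 432, 0, 0], [432, 0, 544, 2, 432, 0, 0],
  [436, 2, 468, 18, 544, 2, 2], [440, 4, 600, 12, 440, 4, 54], [468, 0, 324, 0, 960, 30, 0],
  [468, 0, 372, 6, 480, 6, 0], [468, 18, 1620, 162, 0, 54, 18], [476, 4, 476, 4, 476, 4, 4],
  [480, 6, 960, 30, 480, 6, 6], [480, 42, 0, 1782, 480, 42, 42], [540, 0, 324, 0, 0, 54, 0],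
  [544, 2, 0, 54, 544, 2, 2], [600, 12, 600, 12, 600, 12, 1782], [960, 30, 0, 54, 960, 30, 30],
  [1620, 162, 1620, 162, 0, 1782, 162]]

/-- the sizes of the families -/
def SZ : List ℕ := [
  135135, 1, 145945800, 1037836800, 12812800, 22417274880, 138378240, 1556755200, 18681062400, 40758681600,
  16012339200, 7005398400, 22417274880, 29889699840, 1494484992, 6227020800, 68976230400, 42699571200,
  19926466560, 12454041600, 16605388800, 49816166400, 1556755200, 14010796800, 9340531200, 11208637440,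
  6227020800, 18681062400, 129729600, 5337446400, 2335132800, 2779920, 691891200, 291891600, 249080832,
  9729720, 45760]

/-- the squares of the families -/
def P2 : List ℕ := [
  1, 1, 0, 4, 4, 25, 6, 28, 3, 9, 29, 2, 14, 13, 14, 6, 16, 17, 18, 15, 20, 20, 31, 33, 28, 34, 3, 7, 36, 29,
  35, 1, 4, 0, 34, 0, 36]

/-- the cubes of the families -/
def P3 : List ℕ := [
  0, 1, 2, 0, 1, 5, 1, 35, 2, 9, 10, 11, 12, 14, 14, 31, 16, 29, 34, 22, 4, 32, 22, 23, 33, 25, 35, 30, 0,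
  29, 30, 31, 0, 33, 34, 35, 1]

/-- the squares of the representatives -/
noncomputable def L2 : List (ℕ × List ℕ) := [
  (p0, [0, 1782, 0, 1782, 0, 1782, 1782]), (p1, [0, 1782, 0, 1782, 0, 1782, 1782]),
  (p2, [0, 54, 0, 1782, 0, 54, 54]), (p3, [324, 0, 324, 0, 0, 1782, 0]), (p4, [324, 0, 324, 0, 0, 1782, 0]),
  (p5, [440, 4, 600, 12, 440, 4, 54]), (p6, [360, 18, 360, 18, 0, 1782, 18]),
  (p7, [468, 18, 1620, 162, 0, 54, 18]), (p8, [324, 0, 324, 0, 0, 54, 0]), (p9, [396, 0, 396, 0, 396, 0, 0]),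
  (p10, [476, 4, 476, 4, 476, 4, 4]), (p11, [192, 6, 0, 54, 192, 6, 6]),
  (p12, [400, 2, 400, 2, 400, 2, 1782]), (p13, [400, 2, 400, 2, 400, 2, 162]),
  (p14, [400, 2, 400, 2, 400, 2, 1782]), (p15, [360, 18, 360, 18, 0, 1782, 18]),
  (p16, [416, 1, 416, 1, 416, 1, 1]), (p17, [416, 1, 416, 1, 476, 4, 1]),
  (p18, [420, 3, 420, 3, 600, 12, 18]), (p19, [408, 6, 360, 18, 480, 42, 6]),
  (p20, [432, 0, 432, 0, 324, 0, 0]), (p21, [432, 0, 432, 0, 324, 0, 0]),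
  (p22, [480, 42, 0, 1782, 480, 42, 42]), (p23, [544, 2, 0, 54, 544, 2, 2]),
  (p24, [468, 18, 1620, 162, 0, 54, 18]), (p25, [600, 12, 600, 12, 600, 12, 1782]),
  (p26, [324, 0, 324, 0, 0, 54, 0]), (p27, [372, 6, 468, 18, 960, 30, 6]),
  (p28, [1620, 162, 1620, 162, 0, 1782, 162]), (p29, [476, 4, 476, 4, 476, 4, 4]),
  (p30, [960, 30, 0, 54, 960, 30, 30]), (p31, [0, 1782, 0, 1782, 0, 1782, 1782]),
  (p32, [324, 0, 324, 0, 0, 1782, 0]), (p33, [0, 54, 0, 1782, 0, 54, 54]),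
  (p34, [600, 12, 600, 12, 600, 12, 1782]), (p35, [0, 54, 0, 1782, 0, 54, 54]),
  (p36, [1620, 162, 1620, 162, 0, 1782, 162])]

/-- the cubes of the representatives -/
noncomputable def L3 : List (ℕ × List ℕ) := [
  (p0, [0, 54, 0, 1782, 0, 54, 54]), (p1, [0, 1782, 0, 1782, 0, 1782, 1782]),
  (p2, [192, 6, 0, 54, 192, 6, 6]), (p3, [0, 54, 0, 1782, 0, 54, 54]),
  (p4, [0, 1782, 0, 1782, 0, 1782, 1782]), (p5, [360, 0, 440, 4, 360, 0, 30]),
  (p6, [0, 1782, 0, 1782, 0, 1782, 1782]), (p7, [960, 30, 0, 54, 960, 30, 30]),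
  (p8, [192, 6, 0, 54, 192, 6, 6]), (p9, [396, 0, 396, 0, 396, 0, 0]), (p10, [396, 0, 476, 4, 396, 0, 0]),
  (p11, [400, 2, 192, 6, 400, 2, 2]), (p12, [400, 2, 400, 2, 400, 2, 42]),
  (p13, [400, 2, 400, 2, 400, 2, 1782]), (p14, [400, 2, 400, 2, 400, 2, 1782]),
  (p15, [480, 42, 0, 1782, 480, 42, 42]), (p16, [416, 1, 416, 1, 416, 1, 1]),
  (p17, [476, 4, 476, 4, 476, 4, 4]), (p18, [600, 12, 600, 12, 600, 12, 1782]),
  (p19, [432, 0, 480, 42, 432, 0, 0]), (p20, [324, 0, 324, 0, 0, 1782, 0]),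
  (p21, [540, 0, 324, 0, 0, 54, 0]), (p22, [432, 0, 480, 42, 432, 0, 0]), (p23, [432, 0, 544, 2, 432, 0, 0]),
  (p24, [544, 2, 0, 54, 544, 2, 2]), (p25, [440, 4, 600, 12, 440, 4, 54]),
  (p26, [960, 30, 0, 54, 960, 30, 30]), (p27, [480, 6, 960, 30, 480, 6, 6]),
  (p28, [0, 54, 0, 1782, 0, 54, 54]), (p29, [476, 4, 476, 4, 476, 4, 4]),
  (p30, [480, 6, 960, 30, 480, 6, 6]), (p31, [480, 42, 0, 1782, 480, 42, 42]),
  (p32, [0, 54, 0, 1782, 0, 54, 54]), (p33, [544, 2, 0, 54, 544, 2, 2]),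
  (p34, [600, 12, 600, 12, 600, 12, 1782]), (p35, [960, 30, 0, 54, 960, 30, 30]),
  (p36, [0, 1782, 0, 1782, 0, 1782, 1782])]

theorem L2_chk : ∀ q ∈ L2, chkSig 1782 11 row 11 q.1 key2 q.2 = true :=
  List.forall_mem_cons.2 ⟨sq0, List.forall_mem_cons.2 ⟨sq1, List.forall_mem_cons.2 ⟨sq2,
  List.forall_mem_cons.2 ⟨sq3, List.forall_mem_cons.2 ⟨sq4, List.forall_mem_cons.2 ⟨sq5,
  List.forall_mem_cons.2 ⟨sq6, List.forall_mem_cons.2 ⟨sq7, List.forall_mem_cons.2 ⟨sq8,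
  List.forall_mem_cons.2 ⟨sq9, List.forall_mem_cons.2 ⟨sq10, List.forall_mem_cons.2 ⟨sq11,
  List.forall_mem_cons.2 ⟨sq12, List.forall_mem_cons.2 ⟨sq13, List.forall_mem_cons.2 ⟨sq14,
  List.forall_mem_cons.2 ⟨sq15, List.forall_mem_cons.2 ⟨sq16, List.forall_mem_cons.2 ⟨sq17,
  List.forall_mem_cons.2 ⟨sq18, List.forall_mem_cons.2 ⟨sq19, List.forall_mem_cons.2 ⟨sq20,
  List.forall_mem_cons.2 ⟨sq21, List.forall_mem_cons.2 ⟨sq22, List.forall_mem_cons.2 ⟨sq23,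
  List.forall_mem_cons.2 ⟨sq24, List.forall_mem_cons.2 ⟨sq25, List.forall_mem_cons.2 ⟨sq26,
  List.forall_mem_cons.2 ⟨sq27, List.forall_mem_cons.2 ⟨sq28, List.forall_mem_cons.2 ⟨sq29,
  List.forall_mem_cons.2 ⟨sq30, List.forall_mem_cons.2 ⟨sq31, List.forall_mem_cons.2 ⟨sq32,
  List.forall_mem_cons.2 ⟨sq33, List.forall_mem_cons.2 ⟨sq34, List.forall_mem_cons.2 ⟨sq35,
  List.forall_mem_cons.2 ⟨sq36, List.forall_mem_nil _⟩⟩⟩⟩⟩⟩⟩⟩⟩⟩⟩⟩⟩⟩⟩⟩⟩⟩⟩⟩⟩⟩⟩⟩⟩⟩⟩⟩⟩⟩⟩⟩⟩⟩⟩⟩⟩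

theorem L3_chk : ∀ q ∈ L3, chkSig 1782 11 row 11 q.1 key3 q.2 = true :=
  List.forall_mem_cons.2 ⟨cu0, List.forall_mem_cons.2 ⟨cu1, List.forall_mem_cons.2 ⟨cu2,
  List.forall_mem_cons.2 ⟨cu3, List.forall_mem_cons.2 ⟨cu4, List.forall_mem_cons.2 ⟨cu5,
  List.forall_mem_cons.2 ⟨cu6, List.forall_mem_cons.2 ⟨cu7, List.forall_mem_cons.2 ⟨cu8,
  List.forall_mem_cons.2 ⟨cu9, List.forall_mem_cons.2 ⟨cu10, List.forall_mem_cons.2 ⟨cu11,
  List.forall_mem_cons.2 ⟨cu12, List.forall_mem_cons.2 ⟨cu13, List.forall_mem_cons.2 ⟨cu14,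
  List.forall_mem_cons.2 ⟨cu15, List.forall_mem_cons.2 ⟨cu16, List.forall_mem_cons.2 ⟨cu17,
  List.forall_mem_cons.2 ⟨cu18, List.forall_mem_cons.2 ⟨cu19, List.forall_mem_cons.2 ⟨cu20,
  List.forall_mem_cons.2 ⟨cu21, List.forall_mem_cons.2 ⟨cu22, List.forall_mem_cons.2 ⟨cu23,
  List.forall_mem_cons.2 ⟨cu24, List.forall_mem_cons.2 ⟨cu25, List.forall_mem_cons.2 ⟨cu26,
  List.forall_mem_cons.2 ⟨cu27, List.forall_mem_cons.2 ⟨cu28, List.forall_mem_cons.2 ⟨cu29,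
  List.forall_mem_cons.2 ⟨cu30, List.forall_mem_cons.2 ⟨cu31, List.forall_mem_cons.2 ⟨cu32,
  List.forall_mem_cons.2 ⟨cu33, List.forall_mem_cons.2 ⟨cu34, List.forall_mem_cons.2 ⟨cu35,
  List.forall_mem_cons.2 ⟨cu36, List.forall_mem_nil _⟩⟩⟩⟩⟩⟩⟩⟩⟩⟩⟩⟩⟩⟩⟩⟩⟩⟩⟩⟩⟩⟩⟩⟩⟩⟩⟩⟩⟩⟩⟩⟩⟩⟩⟩⟩⟩

theorem SL_eq : (D.map fun x => x.2.2) = SL := rfl

theorem SL_nodup : SL.Nodup := by decide +kernel

theorem D_length : D.length = 37 := rfl

theorem L2_eq : L2 = List.zipWith (fun x j => (x.1, SL.getD j [])) D P2 := rfl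

theorem L3_eq : L3 = List.zipWith (fun x j => (x.1, SL.getD j [])) D P3 := rfl

theorem L2_len : ∀ q ∈ L2, q.2.length = key2.length := by
  have h : (L2.map fun q => q.2.length) = List.replicate 37 7 := rfl
  intro q hq
  have h1 : q.2.length ∈ (L2.map fun q => q.2.length) := List.mem_map_of_mem hq
  rw [h] at h1
  exact (List.mem_replicate.1 h1).2

theorem L3_len : ∀ q ∈ L3, q.2.length = key3.length := by
  have h : (L3.map fun q => q.2.length) = List.replicate 37 7 := rfl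
  intro q hq
  have h1 : q.2.length ∈ (L3.map fun q => q.2.length) := List.mem_map_of_mem hq
  rw [h] at h1
  exact (List.mem_replicate.1 h1).2

theorem pwc_pow {n : ℕ} (row : ℕ → ℕ) (r : Equiv.Perm (Fin n)) (k : ℕ) (a : Bool × ℕ) :
    pwc row (r ^ k) a = pwc row r (a.1, k * a.2) := by
  unfold pwc
  rw [← pow_mul]

/-- the signature -/
noncomputable def sg (g : Suz) : List ℕ := key.map (pwc row (ψ g))

/-- the family -/
noncomputable def fam (g : Suz) : ℕ := SL.idxOf (sg g)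

theorem fam_of_sg {g : Suz} {i : ℕ} (hi : i < 37) (h : sg g = SL.getD i []) : fam g = i := by
  rw [fam, h, List.getD_eq_getElem _ _ (show i < SL.length from hi)]
  exact SL_nodup.idxOf_getElem i hi

/-- **every element is conjugate by an element of `Suz : 2` to the representative of its family** -/
theorem fam_spec (g : Suz) : ∃ hi : fam g < D.length, ∃ r ∈ N, (∀ p : Fin 1782, (r p : ℕ) = lk 11 (D[fam g]'hi).1 p) ∧
    sg g = SL.getD (fam g) [] ∧ ∃ b ∈ A, ψ g = b * r * b⁻¹ := by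
  obtain ⟨x, hx, r, hrN, hr, b, hb, h⟩ := suz_cover (ψ g) ⟨g, rfl⟩
  obtain ⟨i, hi, rfl⟩ := List.getElem_of_mem hx
  have e1 : sg g = (D[i]'hi).2.2 := by
    rw [← sig_of_chk (by norm_num) hr (D_sg _ hx) (D_len _ hx), sg, h]
    exact List.map_congr_left fun a _ => pwc_conj (H763.Ore.SuzTab.A_le_Aut hb) a
  have e2 : (D[i]'hi).2.2 = SL.getD i [] := by
    rw [List.getD_eq_getElem _ _ (show i < SL.length from hi)]
    have h1 : (D.map fun x => x.2.2)[i]'(by rw [List.length_map]; exact hi) = (D[i]).2.2 := List.getElem_map _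
    rw [← h1]
    rfl
  have e3 : fam g = i := fam_of_sg hi (e1.trans e2)
  subst e3
  exact ⟨hi, r, hrN, hr, e1.trans e2, b, hb, h⟩

theorem fam_lt (g : Suz) : fam g < 37 := (fam_spec g).choose

theorem sg_fam (g : Suz) : sg g = SL.getD (fam g) [] := by
  obtain ⟨-, -, -, -, h, -⟩ := fam_spec g
  exact h

theorem P2_lt : ∀ i < 37, P2.getD i 0 < 37 := by decide +kernel

theorem P3_lt : ∀ i < 37, P3.getD i 0 < 37 := by decide +kernel

/-- the power map -/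
theorem fam_pw {k : ℕ} {kk : List (Bool × ℕ)} {P : List ℕ} {L : List (ℕ × List ℕ)} (hk : (key.map fun a => (a.1, k * a.2)) = kk)
    (hL : L = List.zipWith (fun x j => (x.1, SL.getD j [])) D P) (hP : P.length = 37) (hP2 : ∀ i < 37, P.getD i 0 < 37)
    (hc : ∀ q ∈ L, chkSig 1782 11 row 11 q.1 kk q.2 = true) (hl : ∀ q ∈ L, q.2.length = kk.length) (g : Suz) :
    fam (g ^ k) = P.getD (fam g) 0 := by
  obtain ⟨hi, r, -, hr, -, b, hb, h⟩ := fam_spec g
  have hLl : L.length = 37 := by rw [hL, List.length_zipWith, hP, D_length]; rfl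
  have hi' : fam g < L.length := by rw [hLl]; exact hi
  have e0 : L[fam g] = ((D[fam g]'hi).1, SL.getD (P.getD (fam g) 0) []) := by
    subst hL
    rw [List.getElem_zipWith, List.getD_eq_getElem _ _ (show fam g < P.length by rw [hP]; exact hi)]
  have hm : L[fam g] ∈ L := List.getElem_mem _
  have h1 := hc _ hm
  have h2 := hl _ hm
  rw [e0] at h1 h2
  have h3 := sig_of_chk (by norm_num) hr h1 h2
  refine fam_of_sg (hP2 _ hi) ?_
  show sg (g ^ k) = SL.getD (P.getD (fam g) 0) []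
  refine Eq.trans ?_ h3
  rw [sg, map_pow, h, conj_pow, ← hk, List.map_map]
  refine List.map_congr_left fun a _ => ?_
  rw [pwc_conj (H763.Ore.SuzTab.A_le_Aut hb), pwc_pow]
  rfl

theorem fam_sq (g : Suz) : fam (g ^ 2) = P2.getD (fam g) 0 :=
  fam_pw (kk := key2) rfl L2_eq rfl P2_lt L2_chk L2_len g

theorem fam_cu (g : Suz) : fam (g ^ 3) = P3.getD (fam g) 0 :=
  fam_pw (kk := key3) rfl L3_eq rfl P3_lt L3_chk L3_len g

/-! ### automorphisms -/

theorem fam_conj {b : Equiv.Perm (Fin 1782)} (hb : b ∈ A) {g h : Suz} (e : ψ h = b * ψ g * b⁻¹) : fam h = fam g := by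
  have h1 : sg h = sg g := by
    rw [sg, sg, e]
    exact List.map_congr_left fun a _ => pwc_conj (H763.Ore.SuzTab.A_le_Aut hb) a
  rw [fam, fam, h1]

/-- conjugation by an element of `A` -/
theorem exists_autA {b : Equiv.Perm (Fin 1782)} (hb : b ∈ A) : ∃ σ : MulAut Suz, ∀ g, ψ (σ g) = b * ψ g * b⁻¹ := by
  have hfin : Finite Suz := Nat.finite_of_card_ne_zero (by rw [card_Suz]; norm_num)
  have h : ∀ g : Suz, ∃ g' : Suz, ψ g' = b * ψ g * b⁻¹ := fun g => A_conj hb ⟨g, rfl⟩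
  choose f hf using h
  let F : Suz →* Suz :=
    { toFun := f
      map_one' := ψ_injective (by rw [hf, map_one]; group)
      map_mul' := fun x y => ψ_injective (by rw [hf, map_mul, map_mul, hf, hf]; group) }
  have hF : Function.Injective F := by
    intro x y hxy
    have h1 : f x = f y := hxy
    have h2 : b * ψ x * b⁻¹ = b * ψ y * b⁻¹ := by rw [← hf, ← hf, h1]
    exact ψ_injective (mul_left_cancel (mul_right_cancel h2))
  exact ⟨MulEquiv.ofBijective F (Finite.injective_iff_bijective.1 hF), fun g => hf g⟩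

theorem fam_gal (y y' : Suz) (h : fam y = fam y') : ∃ σ : MulAut Suz, σ y = y' ∧ ∀ g, fam (σ g) = fam g := by
  obtain ⟨hi, r, -, hr, -, b, hb, e⟩ := fam_spec y
  obtain ⟨hi', r', -, hr', -, b', hb', e'⟩ := fam_spec y'
  have hrr : r = r' := perm_eq_of_tab hr (by
    intro p
    rw [hr']
    congr 3
    exact h.symm)
  subst hrr
  obtain ⟨σ, hσ⟩ := exists_autA (A.mul_mem hb' (A.inv_mem hb))
  refine ⟨σ, ψ_injective ?_, fun g => fam_conj (A.mul_mem hb' (A.inv_mem hb)) (hσ g)⟩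
  rw [hσ, e, e']
  group

/-- **the automorphisms of `Suz` are induced by `A`** -/
theorem exists_A (α : MulAut Suz) : ∃ b ∈ A, ∀ g, ψ (α g) = b * ψ g * b⁻¹ := by
  obtain ⟨τ, hτ⟩ := Cfsg.Agent.H323.SuzOut.exists_τ
  rcases Cfsg.Agent.KFacts.SuzOut.out_two τ α with ⟨n, hn⟩ | ⟨n, hn⟩ | ⟨n, hn⟩
  · exact absurd hn.symm (Cfsg.Agent.H323.SuzOut.τ_outer hτ n)
  · refine ⟨ψ n, N_le_A ⟨n, rfl⟩, fun g => ?_⟩
    rw [← hn, MulAut.conj_apply, map_mul, map_mul, map_inv]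
  · refine ⟨_, A.mul_mem T_mem_A (N_le_A ⟨n, rfl⟩), fun g => ?_⟩
    have h1 : α = τ * MulAut.conj n := by rw [hn]; group
    rw [h1, MulAut.mul_apply, hτ, MulAut.conj_apply, map_mul, map_mul, map_inv]
    group

theorem fam_aut (α : MulAut Suz) (g : Suz) : fam (α g) = fam g := by
  obtain ⟨b, hb, h⟩ := exists_A α
  exact fam_conj hb (h g)

/-! ### sizes -/

theorem SZ_chk : ∀ i < 37, SZ.getD i 0 ≤ (2 * 448345497600) / ((D.getD i (0, 0, [])).2.1 + 1) := by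
  have h : (D.map fun x => x.2.1) = (D.map fun x => x.2.1) := rfl
  decide +kernel

theorem SZ_sum : ((List.range 37).map fun i => SZ.getD i 0).sum = 448345497600 := by decide +kernel

theorem card_ge [Fintype Suz] {i : ℕ} (hi : i < 37) : SZ.getD i 0 ≤ (Finset.univ.filter fun g : Suz => fam g = i).card := by
  classical
  have hi2 : i < D.length := hi
  have hx : D[i] ∈ D := List.getElem_mem hi2
  obtain ⟨r, hrN, hr⟩ := D_mem _ hx
  obtain ⟨l, L, hb⟩ := D_bd _ hx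
  obtain ⟨g0, hg0⟩ := hrN
  have hc : Nat.card ↥(A ⊓ Subgroup.centralizer {r}) ≤ (D[i]).2.1 + 1 := by
    refine card_le_bound (by norm_num) hr hb (inf_le_left.trans H763.Ore.SuzTab.A_le_Aut) ?_
    intro σ hσ p
    have h1 := Subgroup.mem_centralizer_singleton_iff.1 (Subgroup.mem_inf.1 hσ).2
    exact congrArg (fun q : Equiv.Perm (Fin 1782) => q p) h1
  have h1 := ncard_cl r hc
  have h2 : (2 * 448345497600) / ((D[i]).2.1 + 1) ≤ Nat.card A / ((D[i]).2.1 + 1) := Nat.div_le_div_right card_A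
  have h3 := SZ_chk i hi
  rw [List.getD_eq_getElem _ _ hi2] at h3
  refine (h3.trans (h2.trans h1)).trans ?_
  -- the class is contained in the image of the family
  have hf0 : fam g0 = i := by
    refine fam_of_sg hi ?_
    rw [sg, hg0, sig_of_chk (by norm_num) hr (D_sg _ hx) (D_len _ hx), List.getD_eq_getElem _ _ (show i < SL.length from hi)]
    have h1 : (D.map fun x => x.2.2)[i]'(by rw [List.length_map]; exact hi) = (D[i]).2.2 := List.getElem_map _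
    rw [← h1]
    rfl
  have h4 : {x | ∃ a ∈ A, x = a * r * a⁻¹} ⊆ ψ '' {g : Suz | fam g = i} := by
    rintro x ⟨a, ha, rfl⟩
    obtain ⟨g, hg⟩ := A_conj ha (⟨g0, rfl⟩ : ψ g0 ∈ N)
    refine ⟨g, ?_, by rw [hg, hg0]⟩
    show fam g = i
    rw [fam_conj ha hg, hf0]
  refine (Set.ncard_le_ncard h4 (Set.toFinite _)).trans ?_
  rw [Set.ncard_image_of_injective _ ψ_injective, ← Set.ncard_coe_finset, Finset.coe_filter]
  simp

/-- **the sizes of the families** -/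
theorem fam_card [Fintype Suz] (i : ℕ) : (Finset.univ.filter fun g : Suz => fam g = i).card = SZ.getD i 0 := by
  classical
  by_cases hi : i < 37
  · have h1 : ∑ i ∈ Finset.range 37, (Finset.univ.filter fun g : Suz => fam g = i).card = 448345497600 := by
      rw [← Finset.card_eq_sum_card_fiberwise (f := fam) (s := Finset.univ) (t := Finset.range 37)
        (fun g _ => Finset.mem_coe.2 (Finset.mem_range.2 (fam_lt g))), Finset.card_univ, ← Nat.card_eq_fintype_card, card_Suz]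
    have h2 : ∑ i ∈ Finset.range 37, SZ.getD i 0 = 448345497600 := SZ_sum
    have h3 : ∀ i ∈ Finset.range 37, SZ.getD i 0 ≤ (Finset.univ.filter fun g : Suz => fam g = i).card :=
      fun i hi => card_ge (Finset.mem_range.1 hi)
    exact ((Finset.sum_eq_sum_iff_of_le h3).1 (h2.trans h1.symm) i (Finset.mem_range.2 hi)).symm
  · have h1 : (Finset.univ.filter fun g : Suz => fam g = i) = ∅ := by
      rw [Finset.filter_eq_empty_iff]
      intro g _ h
      exact hi (h ▸ fam_lt g)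
    rw [h1, Finset.card_empty, List.getD_eq_default]
    exact not_lt.1 hi

/-- the family of the identity -/
theorem fam_one : fam (1 : Suz) = 1 := by
  have h1 := sg_fam 1
  have h2 := fam_lt 1
  have h3 : (sg (1 : Suz)).getD 1 0 = 1782 := by
    show pwc row (ψ 1) (false, 1) = 1782
    unfold pwc
    have e : Nat.card {p : Fin 1782 // Pw row false p (((ψ 1) ^ 1) p)} = Nat.card (Fin 1782) :=
      Nat.card_congr (Equiv.subtypeUnivEquiv fun p => by
        show ((ψ 1) ^ 1) p = p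
        rw [map_one, one_pow]
        rfl)
    rw [e, Nat.card_eq_fintype_card, Fintype.card_fin]
  rw [h1] at h3
  have h4 : ∀ i < 37, (SL.getD i []).getD 1 0 = 1782 → i = 1 := by decide +kernel
  exact h4 _ h2 h3

end Cfsg.Agent.H714.S8.SuzFam
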