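import Cfsg.Agent.H123.Cls.SuzRep

/-!
# Keys of the squares and of the cubes of the 37 representatives of `Suz` (helper714)
-/

set_option autoImplicit false

namespace Cfsg.Agent.H714.S8.SuzFam

/-- the key of the square -/
def key2 : List (Bool × ℕ) := [(true,2),(false,2),(true,4),(false,4),(true,6),(false,6),(false,10)]

/-- the key of the cube -/
def key3 : List (Bool × ℕ) := [(true,3),(false,3),(true,6),(false,6),(true,9),(false,9),(false,15)]

end Cfsg.Agent.H714.S8.SuzFam
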