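import Cfsg.Agent.H714.S8.SuzGen
import Cfsg.Agent.H456.S8.SuzNum

/-!
# S4908, the row `Suz`: SOLV (helper714, helper456)
-/

set_option autoImplicit false

namespace Cfsg.Agent.H714.S8.SuzSolv

open Cfsg Cfsg.Agent.H714.S8.SuzFam

universe u v

theorem mem_of_irr {d : ℕ} (h : ∃ θ : Spor.Suz → ℂ, IsIrrCharacter Spor.Suz θ ∧ θ 1 = (d : ℕ) ∧
    ∀ (α : MulAut Spor.Suz) g, θ (α g) = θ g) : d ∈ charDegrees Spor.Suz := by
  obtain ⟨θ, hθ, h1, -⟩ := h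
  refine ⟨⟨θ, hθ⟩, ?_⟩
  show charDegree θ = d
  rw [charDegree, h1]
  simp

/-- **SOLV for the Suzuki group.** -/
theorem solv {X : Type v} [Group X] [Finite X] (hX : Spor.IsoSuz X) {D : Set ℕ}
    (hD : Cfsg.Agent.H704.S8.Deg 2 X D) : Cfsg.Agent.H704.S8.Solv.{u} D :=
  Cfsg.Agent.H456.S8.SuzNum.solv_of (mem_of_irr irr197120) (mem_of_irr irr243243) hX hD

end Cfsg.Agent.H714.S8.SuzSolv
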